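import Cfsg.Agent.BlockPairs.Maximal
import Cfsg.Agent.OddOrder.PiCore

/-!
# Brauer pairs with `O_π'` in their kernel

`avg N` is the idempotent of a `p'`-subgroup `N`.  A pair `(Q, f)` is *good* when
`avg (O_π'(C(Q))) * f = f`, and `Q` is *full* when `C(Q)` has a normal Hall `π'`-subgroup.
Goodness descends along inclusions of pairs (`good_of_maxPair`), and ascends from a full
subgroup (`good_of_full`).
-/

set_option autoImplicit false
set_option linter.unusedSectionVars false
set_option linter.style.haveILetI false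

namespace CfsgLib.PiKernel

open CfsgLib.BlockPairs

variable {F : Type*} [Field F] {G : Type*} [Group G] [Finite G]

open scoped Classical in
/-- `|N|⁻¹` times the sum of the elements of `N`. -/
noncomputable def avg (F : Type*) [Field F] {G : Type*} [Group G] [Finite G] (N : Subgroup G) :
    GA F G :=
  MonoidAlgebra.ofCoeff
    (Finsupp.equivFunOnFinite.symm fun g => if g ∈ N then (Nat.card N : F)⁻¹ else 0)

theorem avg_coeff_mem {N : Subgroup G} {g : G} (h : g ∈ N) :
    (avg F N).coeff g = (Nat.card N : F)⁻¹ := by simp [avg, h]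

theorem avg_coeff_not_mem {N : Subgroup G} {g : G} (h : g ∉ N) : (avg F N).coeff g = 0 := by
  simp [avg, h]

theorem isSupp_avg (N : Subgroup G) : IsSupp N (avg F N) := fun _ hg =>
  by_contra fun h => hg (avg_coeff_not_mem h)

theorem conjA_avg (x : G) (N : Subgroup G) : conjA F x (avg F N) = avg F (cj x N) := by
  refine ga_ext fun g => ?_
  rw [conjA_coeff]
  by_cases h : g ∈ cj x N
  · rw [avg_coeff_mem h, avg_coeff_mem (mem_cj.1 h), card_cj]
  · rw [avg_coeff_not_mem h, avg_coeff_not_mem fun h' => h (mem_cj.2 h')]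

theorem isFixed_avg {H N : Subgroup G} (h : H ≤ Subgroup.normalizer (N : Set G)) :
    IsFixed H (avg F N) := fun u hu => by rw [conjA_avg, cj_eq_self (h hu)]

theorem avg_mem_sub {H N : Subgroup G} (hN : N ≤ H) (h : H ≤ Subgroup.normalizer (N : Set G)) :
    avg F N ∈ sub H H := ⟨(isSupp_avg N).mono hN, isFixed_avg h⟩

theorem avg_mul_avg {N' N : Subgroup G} (hle : N' ≤ N) (h0 : (Nat.card N' : F) ≠ 0) :
    avg F N' * avg F N = avg F N := by
  classical
  cases nonempty_fintype G
  refine ga_ext fun g => ?_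
  rw [coeff_mul_sum]
  have key : ∀ h : G, (avg F N').coeff h * (avg F N).coeff (h⁻¹ * g) =
      if h ∈ N' then (Nat.card N' : F)⁻¹ * (avg F N).coeff g else 0 := by
    intro h
    split_ifs with hh
    · rw [avg_coeff_mem hh]
      congr 1
      by_cases hg : g ∈ N
      · rw [avg_coeff_mem hg, avg_coeff_mem (N.mul_mem (N.inv_mem (hle hh)) hg)]
      · rw [avg_coeff_not_mem hg, avg_coeff_not_mem fun h' =>
          hg (by simpa using N.mul_mem (hle hh) h')]
    · rw [avg_coeff_not_mem hh, zero_mul]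
  rw [Finset.sum_congr rfl fun h _ => key h, ← Finset.sum_filter, Finset.sum_const, nsmul_eq_mul,
    ← Fintype.card_subtype, ← Nat.card_eq_fintype_card, ← mul_assoc, mul_inv_cancel₀ h0, one_mul]

theorem avg_mul_self {N : Subgroup G} (h0 : (Nat.card N : F) ≠ 0) :
    avg F N * avg F N = avg F N := avg_mul_avg le_rfl h0

section CharP

variable {p : ℕ} [hp : Fact p.Prime] [CharP F p]

theorem natCast_card_ne_zero {N : Subgroup G} (h : ¬ p ∣ Nat.card N) : (Nat.card N : F) ≠ 0 :=
  fun h0 => h ((CharP.cast_eq_zero_iff F p _).1 h0)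

/-- The number of points of `N` and of `N ⊓ C(R)` agree in characteristic `p`. -/
theorem cast_card_inf_centralizer {N R : Subgroup G} (hR : IsPGroup p R)
    (hN : R ≤ Subgroup.normalizer (N : Set G)) :
    (Nat.card ↥(N ⊓ Subgroup.centralizer (R : Set G)) : F) = (Nat.card N : F) := by
  classical
  cases nonempty_fintype G
  letI : MulAction R G := MulAction.compHom G (MulAut.conj.comp R.subtype)
  have hsmul : ∀ (u : R) (h : G), u • h = (u : G) * h * (u : G)⁻¹ := fun u h => rfl
  have key := sum_eq_sum_fixed hR (fun x : F => by simp [CharP.cast_eq_zero F p])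
    (fun h : G => if h ∈ N then (1 : F) else 0) (fun u h => by
      rw [hsmul]
      exact if_congr ((Subgroup.mem_normalizer_iff).1 (hN u.2) h).symm rfl rfl)
  rw [Finset.sum_boole, Finset.sum_boole, Finset.filter_filter] at key
  rw [Nat.card_eq_fintype_card, Fintype.card_subtype, Nat.card_eq_fintype_card,
    Fintype.card_subtype, key]
  congr 2
  ext h
  simp only [Finset.mem_filter, Finset.mem_univ, true_and, Subgroup.mem_inf,
    Subgroup.mem_centralizer_iff, SetLike.mem_coe, hsmul]
  constructor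
  · rintro ⟨h1, h2⟩
    exact ⟨fun u => by rw [h2 u u.2]; group, h1⟩
  · rintro ⟨h2, h1⟩
    exact ⟨h1, fun u hu => mul_inv_eq_iff_eq_mul.1 (h2 ⟨u, hu⟩)⟩

theorem br_avg {N R : Subgroup G} (hR : IsPGroup p R)
    (hN : R ≤ Subgroup.normalizer (N : Set G)) :
    br R (avg F N) = avg F (N ⊓ Subgroup.centralizer (R : Set G)) := by
  refine ga_ext fun g => ?_
  by_cases hg : g ∈ Subgroup.centralizer (R : Set G)
  · rw [br_coeff_mem R _ hg]
    by_cases hN' : g ∈ N
    · rw [avg_coeff_mem hN', avg_coeff_mem (N := N ⊓ _) ⟨hN', hg⟩, cast_card_inf_centralizer hR hN]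
    · rw [avg_coeff_not_mem hN', avg_coeff_not_mem (N := N ⊓ _) fun h => hN' h.1]
  · rw [br_coeff_not_mem R _ hg, avg_coeff_not_mem (N := N ⊓ _) fun h => hg h.2]

end CharP

/-! ### The cores -/

/-- The largest normal `π'`-subgroup of `X`. -/
def core (π : Set ℕ) (X : Subgroup G) : Subgroup G := Cfsg.piCoreOf {q | q ∉ π} X

variable {π : Set ℕ}

theorem core_le (X : Subgroup G) : core π X ≤ X := CfsgLib.OddOrder.piCoreOf_le _ X

theorem le_core {N X : Subgroup G} (hNX : N ≤ X) (hn : X ≤ Subgroup.normalizer (N : Set G))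
    (h : CfsgLib.OddOrder.IsPiSubgroup {q | q ∉ π} N) : N ≤ core π X :=
  CfsgLib.OddOrder.le_piCoreOf hNX hn h

theorem isPi_core (X : Subgroup G) : CfsgLib.OddOrder.IsPiSubgroup {q | q ∉ π} (core π X) :=
  CfsgLib.OddOrder.isPiSubgroup_piCoreOf _ X

theorem normalizer_le_core (X : Subgroup G) :
    Subgroup.normalizer (X : Set G) ≤ Subgroup.normalizer ((core π X : Subgroup G) : Set G) :=
  CfsgLib.OddOrder.normalizer_le_normalizer_piCoreOf _ X

theorem le_normalizer_core (X : Subgroup G) :
    X ≤ Subgroup.normalizer ((core π X : Subgroup G) : Set G) :=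
  Subgroup.le_normalizer.trans (normalizer_le_core X)

theorem le_normalizer_inf {K L X : Subgroup G} (hK : X ≤ Subgroup.normalizer (K : Set G))
    (hL : X ≤ Subgroup.normalizer (L : Set G)) :
    X ≤ Subgroup.normalizer ((K ⊓ L : Subgroup G) : Set G) := fun g hg => by
  refine mem_normalizer_of_cj_eq ?_
  rw [cj, Subgroup.map_inf _ _ _ (MulAut.conj g).injective]
  exact congrArg₂ (· ⊓ ·) (cj_eq_self (hK hg)) (cj_eq_self (hL hg))

theorem not_dvd_card_of_isPi {p : ℕ} [hp : Fact p.Prime] (hpπ : p ∈ π) {N : Subgroup G}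
    (h : CfsgLib.OddOrder.IsPiSubgroup {q | q ∉ π} N) : ¬ p ∣ Nat.card N :=
  fun hd => h p hp.out hd hpπ

theorem isPi_orderOf {N : Subgroup G} (h : CfsgLib.OddOrder.IsPiSubgroup {q | q ∉ π} N) {x : G}
    (hx : x ∈ N) : ∀ q : ℕ, q.Prime → q ∣ orderOf x → q ∉ π := fun q hq hd =>
  h q hq (hd.trans (Subgroup.orderOf_dvd_natCard N hx))

theorem cj_core_le (x : G) (X : Subgroup G) : cj x (core π X) ≤ core π (cj x X) :=
  le_core (cj_mono x (core_le X)) (cj_normalizer_le (le_normalizer_core X) x)
    (CfsgLib.OddOrder.isPiSubgroup_map _ (isPi_core X))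

theorem cj_core (x : G) (X : Subgroup G) : cj x (core π X) = core π (cj x X) := by
  refine le_antisymm (cj_core_le x X) ?_
  have h := cj_mono x (cj_core_le (π := π) x⁻¹ (cj x X))
  rwa [cj_inv_cj, cj_cj_inv] at h

/-- The pair `(Q, f)` is good. -/
def Good (π : Set ℕ) (Q : Subgroup G) (f : GA F G) : Prop :=
  avg F (core π (Subgroup.centralizer (Q : Set G))) * f = f

/-- `C(Q)` has a normal Hall `π'`-subgroup. -/
def Full (π : Set ℕ) (Q : Subgroup G) : Prop :=
  ∀ x ∈ Subgroup.centralizer (Q : Set G), (∀ q : ℕ, q.Prime → q ∣ orderOf x → q ∉ π) →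
    x ∈ core π (Subgroup.centralizer (Q : Set G))

variable {p : ℕ} [hp : Fact p.Prime] [CharP F p]

/-- A normal `π'`-subgroup acts trivially on a good pair. -/
theorem Good.absorb (hpπ : p ∈ π) {Q : Subgroup G} {f : GA F G} (h : Good π Q f)
    {N : Subgroup G} (hle : N ≤ core π (Subgroup.centralizer (Q : Set G))) :
    avg F N * f = f := by
  have h0 : (Nat.card N : F) ≠ 0 := natCast_card_ne_zero
    (not_dvd_card_of_isPi hpπ (CfsgLib.OddOrder.isPiSubgroup_mono hle (isPi_core _)))
  rw [show avg F N * f = avg F N * (avg F (core π _) * f) by rw [h], ← mul_assoc,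
    avg_mul_avg hle h0]
  exact h

theorem Good.of_le (hpπ : p ∈ π) {Q : Subgroup G} {f : GA F G} {N : Subgroup G}
    (hle : core π (Subgroup.centralizer (Q : Set G)) ≤ N) (h : avg F N * f = f) : Good π Q f := by
  unfold Good
  conv_lhs => rw [← h]
  rw [← mul_assoc, avg_mul_avg hle (natCast_card_ne_zero
    (not_dvd_card_of_isPi hpπ (isPi_core _))), h]

theorem Good.conjA' {Q : Subgroup G} {f : GA F G} (h : Good π Q f) (x : G) :
    Good π (cj x Q) (conjA F x f) := by
  have h1 := congrArg (conjA F x) h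
  rw [conjA_mul, conjA_avg, cj_core,
    show cj x (Subgroup.centralizer (Q : Set G)) = Subgroup.centralizer ((cj x Q : Subgroup G) :
      Set G) from Subgroup.ext fun _ => mem_cj_centralizer] at h1
  exact h1

section Step

variable {Q R : Subgroup G} {f g : GA F G}

theorem step_facts (hs : Step p ⊤ (Q, f) (R, g)) :
    R ≤ Subgroup.normalizer ((core π (Subgroup.centralizer (Q : Set G)) : Subgroup G) : Set G) ∧
      core π (Subgroup.centralizer (Q : Set G)) ⊓ Subgroup.centralizer (R : Set G) ≤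
        core π (Subgroup.centralizer (R : Set G)) ∧
      Subgroup.centralizer (R : Set G) ≤ Subgroup.centralizer (Q : Set G) := by
  have hQR : Q ≤ R := hs.2.2.1
  have hN : R ≤ Subgroup.normalizer (Q : Set G) := hs.2.2.2.1
  have hC : Subgroup.centralizer (R : Set G) ≤ Subgroup.centralizer (Q : Set G) :=
    Subgroup.centralizer_le (SetLike.coe_subset_coe.2 hQR)
  refine ⟨fun u hu => normalizer_le_core _ (mem_normalizer_of_cj_eq ?_), ?_, hC⟩
  · rw [show cj u (Subgroup.centralizer (Q : Set G)) = Subgroup.centralizer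
      ((cj u Q : Subgroup G) : Set G) from Subgroup.ext fun _ => mem_cj_centralizer,
      cj_eq_self (hN hu)]
  · exact le_core inf_le_right
      (le_normalizer_inf (hC.trans (le_normalizer_core _)) Subgroup.le_normalizer)
      (CfsgLib.OddOrder.isPiSubgroup_mono inf_le_left (isPi_core _))

theorem Good.of_step (hpπ : p ∈ π) (hs : Step p ⊤ (Q, f) (R, g)) (hg : Good π R g) :
    Good π Q f := by
  obtain ⟨hRN, hinf, -⟩ := step_facts (π := π) hs
  obtain ⟨hpQ, hpR, -, -, hfix, hbr⟩ := hs
  simp only at hpQ hpR hfix hbr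
  set K := core π (Subgroup.centralizer (Q : Set G)) with hK
  have hKm : avg F K ∈ sub (cent ⊤ Q) (cent ⊤ Q) := by
    rw [cent, top_inf_eq]
    exact avg_mem_sub (core_le _) (le_normalizer_core _)
  refine (hpQ.2.2.dichotomy hKm (avg_mul_self (natCast_card_ne_zero
    (not_dvd_card_of_isPi hpπ (isPi_core _))))).resolve_left fun h0 => hpR.2.2.ne_zero ?_
  have h1 := congrArg (br R) h0
  rw [br_mul hpR.2.1 (isFixed_avg hRN) hfix, br_zero, br_avg hpR.2.1 hRN] at h1
  have h2 := congrArg (· * g) h1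
  simp only [zero_mul, mul_assoc, hbr, hg.absorb hpπ hinf] at h2
  exact h2

theorem Full.of_step (hs : Step p ⊤ (Q, f) (R, g)) (h : Full π Q) : Full π R := by
  obtain ⟨-, hinf, hC⟩ := step_facts (π := π) hs
  exact fun x hx hxo => hinf ⟨h x (hC hx) hxo, hx⟩

theorem Good.up_step (hpπ : p ∈ π) (hs : Step p ⊤ (Q, f) (R, g)) (hF : Full π Q)
    (hf : Good π Q f) : Good π R g := by
  obtain ⟨hRN, -, hC⟩ := step_facts (π := π) hs
  obtain ⟨hpQ, hpR, -, -, hfix, hbr⟩ := hs
  simp only at hpQ hpR hfix hbr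
  set K := core π (Subgroup.centralizer (Q : Set G)) with hK
  have hle : core π (Subgroup.centralizer (R : Set G)) ≤
      K ⊓ Subgroup.centralizer (R : Set G) := fun x hx =>
    ⟨hF x (hC (core_le _ hx)) (isPi_orderOf (isPi_core _) hx), core_le _ hx⟩
  refine Good.of_le hpπ hle ?_
  have h1 := congrArg (br R) (show avg F K * f = f from hf)
  rw [br_mul hpR.2.1 (isFixed_avg hRN) hfix, br_avg hpR.2.1 hRN] at h1
  rw [← hbr, ← mul_assoc, h1]

end Step

theorem Good.of_le_pair (hpπ : p ∈ π) {Q P : Subgroup G} {f e : GA F G} (h : Le p ⊤ Q f P e)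
    (he : Good π P e) : Good π Q f := by
  suffices ∀ a b : Subgroup G × GA F G, Relation.ReflTransGen (Step p ⊤) a b →
      Good π b.1 b.2 → Good π a.1 a.2 from this (Q, f) (P, e) h he
  intro a b hab
  induction hab with
  | refl => exact id
  | tail _ hs ih => exact fun hb => ih (Good.of_step hpπ hs hb)

theorem Good.up (hpπ : p ∈ π) {Q P : Subgroup G} {f e : GA F G} (h : Le p ⊤ Q f P e)
    (hF : Full π Q) (hf : Good π Q f) : Full π P ∧ Good π P e := by
  suffices ∀ a b : Subgroup G × GA F G, Relation.ReflTransGen (Step p ⊤) a b →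
      Full π a.1 ∧ Good π a.1 a.2 → Full π b.1 ∧ Good π b.1 b.2 from this (Q, f) (P, e) h ⟨hF, hf⟩
  intro a b hab
  induction hab with
  | refl => exact id
  | tail _ hs ih =>
    intro ha
    exact ⟨(ih ha).1.of_step hs, Good.up_step hpπ hs (ih ha).1 (ih ha).2⟩

variable [IsAlgClosed F]

/-- If one maximal pair of a block is good, every pair of the block is good. -/
theorem good_of_maxPair (hpπ : p ∈ π) {b : GA F G} (hb : IsBlock (⊤ : Subgroup G) b)
    {P : Subgroup G} {e : GA F G} (hmax : IsMaxPair p ⊤ b P e) (he : Good π P e)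
    {Q : Subgroup G} {f : GA F G} (h : BlockHas p ⊤ b Q f) : Good π Q f := by
  obtain ⟨x, -, hle⟩ := exists_conj_le hb hmax h
  have h2 := (Good.of_le_pair hpπ hle he).conjA' x⁻¹
  rwa [cj_inv_cj, conjA_inv] at h2

/-- If one pair is good on a full subgroup, every pair of the block is good. -/
theorem good_of_full (hpπ : p ∈ π) {b : GA F G} (hb : IsBlock (⊤ : Subgroup G) b)
    {Q₀ : Subgroup G} {f₀ : GA F G} (h₀ : BlockHas p ⊤ b Q₀ f₀) (hF : Full π Q₀)
    (hg : Good π Q₀ f₀) {Q : Subgroup G} {f : GA F G} (h : BlockHas p ⊤ b Q f) :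
    Good π Q f := by
  obtain ⟨P, e, hmax, hle⟩ := exists_le_maxPair hb h₀
  exact good_of_maxPair hpπ hb hmax (hg.up hpπ hle hF).2 h

end CfsgLib.PiKernel
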