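import Cfsg.Agent.PiKernel.Basic
import Cfsg.Agent.BlockPairs.PairBridge
import Cfsg.Agent.Blocks.Induced
import Cfsg.Agent.PrincipalBlock.Basic

/-!
# Good pairs and kernels of blocks

`avg_mul_sblk_iff` reads `avg N * sblk M K B = sblk M K B` as `N` lying in the kernel of `B`;
`blockHas_of_induced` gives pairs of `B` below a block inducing `B`; `good_iff_local_kernel`
relates good pairs to the Brauer correspondent of `B`.
-/

set_option autoImplicit false
set_option linter.unusedSectionVars false
set_option linter.style.haveILetI false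

namespace CfsgLib.PiKernel

open CfsgLib.BlockPairs Cfsg
open CfsgLib.Blocks (Ctr Res resCtr idemBar omegaBar)

universe u

variable {G : Type u} [Group G] [Finite G] {M : Ideal AlgInt} [M.IsPrime]
variable {p : ℕ} [hp : Fact p.Prime] [CharP (Res M) p] [IsAlgClosed (Res M)]

theorem avg_mul_sblk_iff {K : Subgroup G} {B : Set (IrrCharacter K)} (hB : Cfsg.IsPBlock M B)
    {N : Subgroup G} (hNK : N ≤ K) (hn : K ≤ Subgroup.normalizer (N : Set G))
    (hN : ¬ p ∣ Nat.card N) :
    avg (Res M) N * sblk M K B = sblk M K B ↔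
      ∀ χ ∈ B, ∀ x : K, (x : G) ∈ N → (χ : K → ℂ) x = (χ : K → ℂ) 1 := by
  classical
  haveI := Fintype.ofFinite K
  set N' := N.subgroupOf K with hN'
  haveI : N'.Normal := (Subgroup.normal_subgroupOf_iff_le_normalizer hNK).2 hn
  have hc0 : (Nat.card N : Res M) ≠ 0 := natCast_card_ne_zero hN
  set a : Ctr (Res M) K := ⟨CfsgLib.PrincipalBlock.indOf (Res M) N',
    CfsgLib.PrincipalBlock.indOf_mem_ctr N'⟩ with ha
  have hemb : avg (Res M) N =
      (Nat.card N : Res M)⁻¹ • emb K.subtype (a : GA (Res M) K) := by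
    refine ga_ext fun g => ?_
    rw [MonoidAlgebra.coeff_smul, Finsupp.smul_apply, smul_eq_mul]
    by_cases hg : g ∈ K
    · have h1 := emb_coeff_apply (k := Res M) K.subtype_injective (a : GA (Res M) K) ⟨g, hg⟩
      rw [Subgroup.coe_subtype] at h1
      rw [h1, ha, CfsgLib.PrincipalBlock.coeff_indOf]
      by_cases hgN : g ∈ N
      · rw [avg_coeff_mem hgN, if_pos (show (⟨g, hg⟩ : K) ∈ N' from hgN), mul_one]
      · rw [avg_coeff_not_mem hgN, if_neg (show (⟨g, hg⟩ : K) ∉ N' from hgN), mul_zero]
    · rw [avg_coeff_not_mem fun h => hg (hNK h),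
        emb_coeff_not_mem _ _ (by rwa [K.range_subtype]), mul_zero]
  have hblk := isBlock_sblk (M := M) hB
  have hmem : avg (Res M) N ∈ sub K K := avg_mem_sub hNK hn
  have hem : emb K.subtype (a : GA (Res M) K) ∈ sub K K := by
    have := emb_mem_sub (φ := K.subtype) K.subtype_injective a.2
    rwa [K.range_subtype] at this
  have hom : ∀ χ ∈ B, omega K (sblk M K B) (avg (Res M) N) =
      if N' ≤ CfsgLib.PrincipalBlock.charKer χ then 1 else 0 := by
    intro χ hχ
    have h1 := omega_blkE (φ := K.subtype) K.subtype_injective hB hχ a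
    rw [K.range_subtype] at h1
    rw [hemb, omega_smul hblk hem, sblk, h1, ha, CfsgLib.PrincipalBlock.omegaBar_indOf,
      show Nat.card N' = Nat.card N from Nat.card_congr (Subgroup.subgroupOfEquivOfLe hNK).toEquiv]
    split_ifs <;> simp [hc0]
  constructor
  · intro h χ hχ x hx
    have h1 : omega K (sblk M K B) (avg (Res M) N) = 1 := omega_unique hblk hmem (by simp [h])
    rw [hom χ hχ] at h1
    split_ifs at h1 with hk
    · exact CfsgLib.PrincipalBlock.mem_charKer.1 (hk (show x ∈ N' from hx))
    · exact absurd h1 zero_ne_one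
  · intro h
    obtain ⟨χ, hχ⟩ := CfsgLib.Blocks.isPBlock_nonempty hB
    refine (hblk.dichotomy hmem (avg_mul_self hc0)).resolve_left fun h0 => ?_
    have h1 : omega K (sblk M K B) (avg (Res M) N) = 0 :=
      omega_unique hblk hmem (by simp [h0])
    rw [hom χ hχ, if_pos (show N' ≤ CfsgLib.PrincipalBlock.charKer χ from
      fun x hx => CfsgLib.PrincipalBlock.mem_charKer.2 (h χ hχ x hx))] at h1
    exact one_ne_zero h1

/-- Below the Brauer image of a block inducing `B` there are only pairs of `B`. -/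
theorem blockHas_of_induced {H : Subgroup G} {b : Set (IrrCharacter H)}
    {B : Set (IrrCharacter G)} (hind : Cfsg.IsInducedBlock M H b B) {P : Subgroup G}
    (hP : IsPGroup p P) (hPH : P ≤ H) (hCH : Subgroup.centralizer (P : Set G) ≤ H)
    {f : GA (Res M) G} (hf : IsBlock (Subgroup.centralizer (P : Set G)) f)
    (hle : br P (sblk M H b) * f = f) : BlockHas p ⊤ (gblk M B) P f := by
  classical
  haveI := Fintype.ofFinite G
  haveI := Fintype.ofFinite H
  have hU := CfsgLib.Blocks.isBlockUnion_of_isPBlock hind.2.1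
  obtain ⟨ξ, hξ⟩ := CfsgLib.Blocks.isPBlock_nonempty hind.1
  obtain ⟨χ, hχ⟩ := CfsgLib.Blocks.isPBlock_nonempty hind.2.1
  set u := emb H.subtype ((resCtr H (idemBar M B hU) : Ctr (Res M) H) : GA (Res M) H) with hu
  have hum : u ∈ sub H H := by
    have := emb_mem_sub (φ := H.subtype) H.subtype_injective (resCtr H (idemBar M B hU)).2
    rwa [H.range_subtype] at this
  have hblk := isBlock_sblk (M := M) hind.1
  have hone : omega H (sblk M H b) u = 1 := by
    have h1 := omega_blkE (φ := H.subtype) H.subtype_injective hind.1 hξ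
      (resCtr H (idemBar M B hU))
    rw [H.range_subtype] at h1
    rw [sblk, hu, h1, (CfsgLib.Blocks.isInducedBlock_iff H hind.1 hind.2.1 hξ hχ).1 hind,
      CfsgLib.Blocks.omegaBar_idemBar, if_pos hχ]
  obtain ⟨v, hv, huv⟩ := exists_inv_of_omega_ne_zero hblk hum (by rw [hone]; exact one_ne_zero)
  have hbu : br P u = br P (gblk M B) := by
    refine ga_ext fun g => ?_
    by_cases hg : g ∈ Subgroup.centralizer (P : Set G)
    · rw [br_coeff_mem P _ hg, br_coeff_mem P _ hg]
      have h1 := emb_coeff_apply (k := Res M) H.subtype_injective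
        ((resCtr H (idemBar M B hU) : Ctr (Res M) H) : GA (Res M) H) ⟨g, hCH hg⟩
      rw [Subgroup.coe_subtype] at h1
      rw [hu, h1, CfsgLib.Blocks.coeff_resCtr, gblk]
      exact (blkE_coeff (φ := MonoidHom.id G) Function.injective_id hU g).symm
    · rw [br_coeff_not_mem P _ hg, br_coeff_not_mem P _ hg]
  have hgb := isBlock_gblk (M := M) hind.2.1
  have hbm : br P (gblk M B) ∈ sub (Subgroup.centralizer (P : Set G))
      (Subgroup.centralizer (P : Set G)) := by
    have := br_mem_cent_block (P := P) hgb.mem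
    rwa [cent_top] at this
  refine ⟨⟨le_top, hP, by rwa [cent_top]⟩, ?_⟩
  refine (hf.dichotomy hbm (br_idem hP (hgb.fixed.mono le_top) hgb.idem)).resolve_left
    fun h0 => hf.ne_zero ?_
  rw [← hle, ← huv, sub_comm hum hv, br_mul hP (hv.2.mono hPH) (hum.2.mono hPH), hbu, mul_assoc,
    h0, mul_zero]

/-- A block inducing `B` gives a pair of `B`. -/
theorem exists_blockHas_of_induced {H : Subgroup G} {b : Set (IrrCharacter H)}
    {B : Set (IrrCharacter G)} (hind : Cfsg.IsInducedBlock M H b B) {P : Subgroup G}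
    (hP : IsPGroup p P) (hPH : P ≤ H) (hCH : Subgroup.centralizer (P : Set G) ≤ H)
    (hne : br P (sblk M H b) ≠ 0) :
    ∃ f, BlockHas p ⊤ (gblk M B) P f ∧ IsBlock (Subgroup.centralizer (P : Set G)) f ∧
      br P (sblk M H b) * f = f := by
  have hblk := isBlock_sblk (M := M) hind.1
  have hm : br P (sblk M H b) ∈ sub (Subgroup.centralizer (P : Set G))
      (Subgroup.centralizer (P : Set G)) := by
    have := br_mem_cent_block (P := P) hblk.mem
    rwa [cent, inf_eq_right.2 hCH] at this
  obtain ⟨f, hf, hle⟩ := exists_isBlock_below hm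
    (br_idem hP (hblk.fixed.mono hPH) hblk.idem) hne
  exact ⟨f, blockHas_of_induced hind hP hPH hCH hf hle, hf, hle⟩

variable {π : Set ℕ} {B : Set (IrrCharacter G)} {D : Subgroup G}
  {B₁ : Set (IrrCharacter (Subgroup.normalizer (D : Set G)))}

theorem mem_core_iff {X : Subgroup G} {x : X} :
    (x : G) ∈ core π X ↔ x ∈ Cfsg.piCore {q | q ∉ π} X :=
  Subgroup.mem_map_iff_mem X.subtype_injective

/-- The local kernel hypothesis makes every pair of the block good. -/
theorem good_of_local_kernel (hpπ : p ∈ π) (hBD : Cfsg.IsDefectGroup p M B D)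
    (hind : Cfsg.IsInducedBlock M (Subgroup.normalizer (D : Set G)) B₁ B)
    (hker : ∀ n : Subgroup.normalizer (D : Set G),
      n ∈ Cfsg.piCore {q | q ∉ π} (Subgroup.normalizer (D : Set G)) → n ∈ Cfsg.blockKer B₁)
    {Q : Subgroup G} {f : GA (Res M) G} (h : BlockHas p ⊤ (gblk M B) Q f) : Good π Q f := by
  have hd := (isDefectGroup_gblk_iff hind.2.1 D).1 hBD
  have hblk := isBlock_sblk (M := M) hind.1
  have hbr : br D (sblk M (Subgroup.normalizer (D : Set G)) B₁) = sblk M (Subgroup.normalizer (D : Set G)) B₁ :=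
    br_eq_self_of_normal hd.2.1 Subgroup.le_normalizer le_rfl hblk.mem hblk.idem
  obtain ⟨e, he, -, hle⟩ := exists_blockHas_of_induced hind hd.2.1 Subgroup.le_normalizer
    (Subgroup.centralizer_le_normalizer _) (by rw [hbr]; exact hblk.ne_zero)
  rw [hbr] at hle
  have hL : avg (Res M) (core π (Subgroup.normalizer (D : Set G))) * sblk M (Subgroup.normalizer (D : Set G)) B₁ = sblk M (Subgroup.normalizer (D : Set G)) B₁ :=
    (avg_mul_sblk_iff hind.1 (core_le _) (le_normalizer_core _)
      (not_dvd_card_of_isPi hpπ (isPi_core _))).2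
      fun χ hχ x hx => hker x (mem_core_iff.1 hx) χ hχ
  have hle' : core π (Subgroup.centralizer (D : Set G)) ≤ core π (Subgroup.normalizer (D : Set G)) :=
    le_core ((core_le _).trans (Subgroup.centralizer_le_normalizer _))
      ((normalizer_le_normalizer_centralizer D).trans (normalizer_le_core _)) (isPi_core _)
  refine good_of_maxPair hpπ (isBlock_gblk hind.2.1) (isMaxPair_of_defect hd he)
    (Good.of_le hpπ hle' ?_) h
  rw [← hle, ← mul_assoc, hL]

/-- Good pairs give the local kernel. -/
theorem local_kernel_of_good (hpπ : p ∈ π) (hBD : Cfsg.IsDefectGroup p M B D)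
    (hind : Cfsg.IsInducedBlock M (Subgroup.normalizer (D : Set G)) B₁ B)
    (hgood : ∀ e, BlockHas p ⊤ (gblk M B) D e → Good π D e)
    {n : Subgroup.normalizer (D : Set G)}
    (hn : n ∈ Cfsg.piCore {q | q ∉ π} (Subgroup.normalizer (D : Set G))) :
    n ∈ Cfsg.blockKer B₁ := by
  have hd := (isDefectGroup_gblk_iff hind.2.1 D).1 hBD
  have hblk := isBlock_sblk (M := M) hind.1
  have hbr : br D (sblk M (Subgroup.normalizer (D : Set G)) B₁) = sblk M (Subgroup.normalizer (D : Set G)) B₁ :=
    br_eq_self_of_normal hd.2.1 Subgroup.le_normalizer le_rfl hblk.mem hblk.idem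
  obtain ⟨e, he, -, hle⟩ := exists_blockHas_of_induced hind hd.2.1 Subgroup.le_normalizer
    (Subgroup.centralizer_le_normalizer _) (by rw [hbr]; exact hblk.ne_zero)
  rw [hbr] at hle
  set L := core π (Subgroup.normalizer (D : Set G)) with hL
  have hinf : L ⊓ D = ⊥ := CfsgLib.OddOrder.inf_eq_bot_of_isPiSubgroup (isPi_core _)
    (CfsgLib.OddOrder.isPiSubgroup_of_isPGroup hd.2.1 hpπ)
    (Set.disjoint_left.2 fun q h1 h2 => h1 h2)
  have hLC : L ≤ Subgroup.centralizer (D : Set G) := fun l hl =>
    Subgroup.mem_centralizer_iff.2 fun d hd' => by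
      have h1 : d * l * d⁻¹ * l⁻¹ ∈ L ⊓ D := by
        refine ⟨L.mul_mem ?_ (L.inv_mem hl), ?_⟩
        · exact ((Subgroup.mem_normalizer_iff).1
            (le_normalizer_core (Subgroup.normalizer (D : Set G)) (Subgroup.le_normalizer hd')) l).1 hl
        · have h2 := D.mul_mem hd' (((Subgroup.mem_normalizer_iff).1 (core_le (Subgroup.normalizer (D : Set G)) hl) d⁻¹).1
            (D.inv_mem hd'))
          simpa [mul_assoc] using h2
      rw [hinf, Subgroup.mem_bot] at h1
      calc d * l = d * l * d⁻¹ * l⁻¹ * (l * d) := by group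
        _ = l * d := by rw [h1, one_mul]
  have hLO : L ≤ core π (Subgroup.centralizer (D : Set G)) :=
    le_core hLC ((Subgroup.centralizer_le_normalizer _).trans (le_normalizer_core (Subgroup.normalizer (D : Set G))))
      (isPi_core _)
  have h3 : avg (Res M) L * e = e := (hgood e he).absorb hpπ hLO
  have hLn := not_dvd_card_of_isPi hpπ (isPi_core (π := π) (Subgroup.normalizer (D : Set G)))
  have h4 : avg (Res M) L * sblk M (Subgroup.normalizer (D : Set G)) B₁ = sblk M (Subgroup.normalizer (D : Set G)) B₁ := by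
    refine (hblk.dichotomy (avg_mem_sub (core_le _) (le_normalizer_core _))
      (avg_mul_self (natCast_card_ne_zero hLn))).resolve_left fun h0 => he.1.2.2.ne_zero ?_
    rw [← h3, ← hle, ← mul_assoc, h0, zero_mul]
  exact fun χ hχ => (avg_mul_sblk_iff hind.1 (core_le _) (le_normalizer_core _) hLn).1 h4 χ hχ n
    (mem_core_iff.2 hn)

end CfsgLib.PiKernel
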